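/-
Arithmetic on lists for PΩ(7, 3) on 378 lines.
-/
import Cfsg.Agent.Lib.O7Mult.GroupData

set_option autoImplicit false

namespace CfsgLib.O7Mult

open CfsgPC

/-- Coordinate `t` of a listed vector. -/
def co (l : List ℕ) (t : ℕ) : ℕ := l.getD t 0

/-- The form. -/
def qN (l : List ℕ) : ℕ := (co l 0 * co l 0 + co l 1 * co l 4 + co l 2 * co l 5 + co l 3 * co l 6) % 3

/-- Its polar form. -/
def polN (u v : List ℕ) : ℕ :=
  (2 * co u 0 * co v 0 + co u 1 * co v 4 + co u 4 * co v 1 + co u 2 * co v 5 + co u 5 * co v 2 + co u 3 * co v 6 +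
    co u 6 * co v 3) % 3

/-- A reflection. -/
def reflN (v x : List ℕ) : List ℕ :=
  let c := 3 - qN v * polN v x % 3
  (List.range 7).map fun t => (co x t + c * co v t) % 3

/-- A product of reflections. -/
def actN (w : List (List ℕ)) (x : List ℕ) : List ℕ := w.foldr reflN x

/-- The opposite vector. -/
def negN (x : List ℕ) : List ℕ := (List.range 7).map fun t => (3 - co x t) % 3

def pt (i : ℕ) : List ℕ := pts.getD i []

/-- The code of a vector. -/
def keyN (x : List ℕ) : ℕ := x.foldr (fun d k => d + 3 * k) 0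

/-- A generator moves one line as its code says. -/
def imgB (j i : ℕ) : Bool :=
  let y := actN (genRefl.getD j []) (pt i)
  let z := pt (ap (gens.getD j (0, 0)).1 i)
  (y == z) || (y == negN z)

end CfsgLib.O7Mult
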