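/-
Kernel checks for PΩ(7, 3) on 378 lines.
-/
import Cfsg.Agent.Lib.O7Mult.Defs

set_option autoImplicit false
set_option maxRecDepth 100000
set_option maxHeartbeats 4000000

namespace CfsgLib.O7Mult

open CfsgPC

theorem gens_ok : (gens.all fun c => isPerm 378 c.1 c.2) = true ∧ gens.length = 2 := by decide +kernel

theorem refl_ok : ((List.range 2).all fun j =>
    Nat.beq ((genRefl.getD j []).length % 2) 0 &&
      (genRefl.getD j []).all (fun v => !Nat.beq (qN v) 0) &&
      Nat.beq (((genRefl.getD j []).map qN).prod % 3) 1) = true := by decide +kernel

theorem pts_ok : ((List.range 378).all fun i =>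
    Nat.beq (pt i).length 7 && (pt i).all (fun d => Nat.blt d 3) && Nat.beq (qN (pt i)) 1) = true := by decide +kernel

theorem pts_distinct : ((List.range 378).all fun i => (List.range i).all fun k =>
    !Nat.beq (keyN (pt k)) (keyN (pt i)) && !Nat.beq (keyN (pt k)) (keyN (negN (pt i)))) = true := by decide +kernel

theorem imgs_ok : ((List.range 2).all fun j => (List.range 378).all (imgB j)) = true := by decide +kernel

theorem chain_shape : shapeOK 378 chain (gens.map Prod.fst) = true ∧
    (chain.map fun L => L.tr.length) = [378, 260, 96, 27, 6, 3] ∧ sizeOfChain chain = 4585351680 := by decide +kernel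

theorem chain_entries0a : entriesOK 378 chain (gens.map Prod.fst) 0 0 126 = true := by decide +kernel

theorem chain_entries0b : entriesOK 378 chain (gens.map Prod.fst) 0 126 252 = true := by decide +kernel

theorem chain_entries0c : entriesOK 378 chain (gens.map Prod.fst) 0 252 378 = true := by decide +kernel

theorem chain_entries1a : entriesOK 378 chain (gens.map Prod.fst) 1 0 130 = true := by decide +kernel

theorem chain_entries1b : entriesOK 378 chain (gens.map Prod.fst) 1 130 260 = true := by decide +kernel

theorem chain_entries2 : entriesOK 378 chain (gens.map Prod.fst) 2 0 96 = true := by decide +kernel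

theorem chain_entries3 : entriesOK 378 chain (gens.map Prod.fst) 3 0 27 = true := by decide +kernel

theorem chain_entries4 : entriesOK 378 chain (gens.map Prod.fst) 4 0 6 = true := by decide +kernel

theorem chain_entries5 : entriesOK 378 chain (gens.map Prod.fst) 5 0 3 = true := by decide +kernel

end CfsgLib.O7Mult
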