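/-
PΩ(7, 3) as the group of permutations of 378 lines of anisotropic vectors.
-/
import Cfsg.Agent.Lib.O7Mult.GroupChecks
import Cfsg.Agent.Lib.OmegaMem
import Cfsg.Agent.Lib.OrthCover.Odd
import Cfsg.Agent.Lib.POmegaCard
import Cfsg.Agent.Lib.OrthOrderBase
import Cfsg.Agent.Lib.PermChain.Model

set_option autoImplicit false
set_option maxRecDepth 30000
set_option linter.unusedSectionVars false
set_option linter.style.haveILetI false

namespace CfsgLib.O7Mult

open Equiv CfsgPC QuadraticMap
open CfsgLib.StdQuadForms (Qo Qo_apply Qo_nondeg)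
open scoped Matrix

universe u

attribute [local irreducible] chain gens genRefl pts

/-- PΩ(7, 3) on 378 lines. -/
abbrev SmallO := ↥(genG 378 (gens.map Prod.fst))

theorem small_valid : Valid 378 (gens.map Prod.fst) := fun c hc => by
  obtain ⟨d, hd, rfl⟩ := List.mem_map.mp hc
  exact ⟨_, decP_rep (List.all_eq_true.mp gens_ok.1 d hd)⟩

theorem small_table : TableOK 378 chain (gens.map Prod.fst) := by
  obtain ⟨hs, hlens, -⟩ := chain_shape
  refine tableOK_of_checks hs fun j hj k hk => ?_
  have hk' : k < [378, 260, 96, 27, 6, 3].getD j 0 := by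
    rw [← hlens, List.getD_eq_getElem _ _ (by simpa using hj), List.getElem_map]
    rwa [List.getD_eq_getElem _ _ hj] at hk
  have hl : chain.length = 6 := by simpa using congrArg List.length hlens
  rw [hl] at hj
  clear hk
  interval_cases j
  · replace hk' : k < 378 := hk'
    by_cases h1 : k < 126
    · exact of_entriesOK chain_entries0a (Nat.zero_le _) h1
    by_cases h2 : k < 252
    · exact of_entriesOK chain_entries0b (by omega) h2
    exact of_entriesOK chain_entries0c (by omega) hk'
  · replace hk' : k < 260 := hk'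
    by_cases h1 : k < 130
    · exact of_entriesOK chain_entries1a (Nat.zero_le _) h1
    exact of_entriesOK chain_entries1b (by omega) hk'
  · exact of_entriesOK chain_entries2 (Nat.zero_le _) hk'
  · exact of_entriesOK chain_entries3 (Nat.zero_le _) hk'
  · exact of_entriesOK chain_entries4 (Nat.zero_le _) hk'
  · exact of_entriesOK chain_entries5 (Nat.zero_le _) hk'

/-- The index type of the seven coordinates. -/
abbrev Idx := Unit ⊕ (Fin 3 ⊕ Fin 3)

/-- The place of a coordinate in a list. -/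
def pos : Idx → ℕ
  | .inl _ => 0
  | .inr (.inl i) => 1 + i
  | .inr (.inr i) => 4 + i

theorem pos_lt : ∀ s, pos s < 7 := by decide

theorem pos_surj : ∀ t < 7, ∃ s, pos s = t := by decide

section Field

variable (F : Type u) [Field F]

/-- A vector from a list. -/
def vec (l : List ℕ) : Idx → F := fun s => (co l (pos s) : F)

variable {F} [Fintype F] (hF : Fintype.card F = 3)

include hF

theorem three_zero : (3 : F) = 0 := by
  have h : (Fintype.card F : F) = 0 := FiniteField.cast_card_eq_zero F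
  rw [hF] at h
  exact_mod_cast h

theorem two_ne : (2 : F) ≠ 0 := fun h => one_ne_zero (α := F) (by linear_combination three_zero hF - h)

theorem cast_mod (n : ℕ) : ((n % 3 : ℕ) : F) = (n : F) := by
  conv_rhs => rw [← Nat.mod_add_div n 3, Nat.cast_add, Nat.cast_mul, Nat.cast_ofNat, three_zero hF, zero_mul, add_zero]

theorem cast_inj {a b : ℕ} (ha : a < 3) (hb : b < 3) (h : (a : F) = b) : a = b := by
  haveI : Fact (Nat.Prime 3) := ⟨Nat.prime_three⟩
  haveI : CharP F 3 := charP_of_card_eq_prime_pow (f := 1) (by rw [hF]; norm_num)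
  have := (CharP.natCast_eq_natCast F 3).mp h
  rwa [Nat.ModEq, Nat.mod_eq_of_lt ha, Nat.mod_eq_of_lt hb] at this

theorem cast_qN (l : List ℕ) : (qN l : F) = Qo 3 (vec F l) := by
  rw [qN, cast_mod hF, Qo_apply]
  simp [Cfsg.quadFormOdd, vec, pos, Fin.sum_univ_three, pow_two]
  ring

theorem cast_polN (u v : List ℕ) : (polN u v : F) = polar (Qo 3) (vec F u) (vec F v) := by
  rw [polN, cast_mod hF]
  simp [polar, Qo_apply, Cfsg.quadFormOdd, vec, pos, Fin.sum_univ_three]
  ring

theorem qN_sq {l : List ℕ} (h : qN l ≠ 0) : (Qo 3 (vec F l))⁻¹ = Qo 3 (vec F l) := by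
  refine inv_eq_of_mul_eq_one_left ?_
  rw [← cast_qN hF]
  have hlt : qN l < 3 := Nat.mod_lt _ (by norm_num)
  generalize qN l = n at h hlt
  interval_cases n
  · exact absurd rfl h
  · simp
  · linear_combination three_zero hF

theorem vec_map (f : ℕ → ℕ) (s : Idx) : vec F ((List.range 7).map f) s = (f (pos s) : F) := by
  rw [vec, co, List.getD_eq_getElem _ _ (by simpa using pos_lt s), List.getElem_map, List.getElem_range]

theorem vec_refl {v : List ℕ} (h : qN v ≠ 0) (x : List ℕ) :
    Cfsg.reflectionMatrix (⇑(Qo (F := F) 3)) (vec F v) *ᵥ vec F x = vec F (reflN v x) := by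
  rw [CfsgLib.PolarVec.reflection_mulVec, qN_sq hF h]
  funext s
  rw [reflN, vec_map hF, cast_mod hF, Nat.cast_add, Nat.cast_mul,
    Nat.cast_sub (Nat.le_of_lt (Nat.mod_lt _ (by norm_num))), cast_mod hF, Nat.cast_mul, cast_qN hF, cast_polN hF,
    Nat.cast_ofNat, three_zero hF]
  simp only [Pi.add_apply, Pi.smul_apply, smul_eq_mul, vec]
  ring

theorem vec_neg (x : List ℕ) (hx : ∀ d ∈ x, d < 3) : vec F (negN x) = -vec F x := by
  funext s
  have hle : co x (pos s) ≤ 3 := by
    by_cases h : pos s < x.length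
    · rw [co, List.getD_eq_getElem _ _ h]; exact (hx _ (List.getElem_mem h)).le
    · rw [co, List.getD_eq_default _ _ (by omega)]; exact Nat.zero_le _
  rw [negN, vec_map hF, cast_mod hF, Nat.cast_sub hle, Nat.cast_ofNat, three_zero hF, zero_sub]
  rfl

theorem vec_act : ∀ (w : List (List ℕ)), (∀ v ∈ w, qN v ≠ 0) → ∀ x : List ℕ,
    ((w.map (vec F)).map fun v => Cfsg.reflectionMatrix (⇑(Qo (F := F) 3)) v).prod *ᵥ vec F x = vec F (actN w x) := by
  intro w
  induction w with
  | nil => intro _ x; simp [actN]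
  | cons v w ih =>
    intro h x
    rw [List.map_cons, List.map_cons, List.prod_cons, ← Matrix.mulVec_mulVec,
      ih (fun a ha => h a (List.mem_cons_of_mem _ ha)), vec_refl hF (h v (List.mem_cons_self ..))]
    rfl

theorem vec_inj {a b : List ℕ} (ha : a.length = 7) (hb : b.length = 7) (ha3 : ∀ d ∈ a, d < 3) (hb3 : ∀ d ∈ b, d < 3)
    (h : vec F a = vec F b) : a = b := by
  refine List.ext_getElem (ha.trans hb.symm) fun t h1 h2 => ?_
  obtain ⟨s, rfl⟩ := pos_surj t (ha ▸ h1)
  have := congrFun h s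
  simp only [vec, co] at this
  rw [List.getD_eq_getElem _ _ h1, List.getD_eq_getElem _ _ h2] at this
  exact cast_inj hF (ha3 _ (List.getElem_mem h1)) (hb3 _ (List.getElem_mem h2)) this

theorem pt_facts (i : Fin 378) : (pt i).length = 7 ∧ (∀ d ∈ pt i, d < 3) ∧ Qo (F := F) 3 (vec F (pt i)) = 1 := by
  have h := List.all_eq_true.mp pts_ok i (List.mem_range.mpr i.2)
  simp only [Bool.and_eq_true, List.all_eq_true, Nat.blt_eq] at h
  refine ⟨Nat.eq_of_beq_eq_true h.1.1, h.1.2, ?_⟩
  rw [← cast_qN hF, Nat.eq_of_beq_eq_true h.2, Nat.cast_one]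

omit hF in
/-- A point: a pair of opposite vectors. -/
def line (F : Type u) [Field F] (i : Fin 378) : Set (Idx → F) := {vec F (pt i), -vec F (pt i)}

theorem line_injective : Function.Injective (line F) := by
  intro i k h
  by_contra hne
  have key : ∀ i k : Fin 378, (k : ℕ) < i → vec F (pt k) ∈ line F i → False := by
    intro i k hki hm
    obtain ⟨li, di, -⟩ := pt_facts hF i
    obtain ⟨lk, dk, -⟩ := pt_facts hF k
    have hd := List.all_eq_true.mp (List.all_eq_true.mp pts_distinct i (List.mem_range.mpr i.2)) k (List.mem_range.mpr hki)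
    simp only [Bool.and_eq_true, Bool.not_eq_true'] at hd
    rcases hm with hm | hm
    · rw [vec_inj hF lk li dk di hm, Nat.beq_refl] at hd
      exact Bool.noConfusion hd.1
    · have hl : (negN (pt i)).length = 7 := by rw [negN, List.length_map, List.length_range]
      have h3 : ∀ d ∈ negN (pt i), d < 3 := fun d hd' => by
        obtain ⟨t, -, rfl⟩ := List.mem_map.mp hd'
        exact Nat.mod_lt _ (by norm_num)
      rw [vec_inj hF lk hl dk h3 (hm.trans (vec_neg hF _ di).symm), Nat.beq_refl] at hd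
      exact Bool.noConfusion hd.2
  rcases Nat.lt_trichotomy (k : ℕ) i with hlt | heq | hgt
  · exact key i k hlt (h ▸ Set.mem_insert _ _)
  · exact hne (Fin.ext heq.symm)
  · exact key k i hgt (h ▸ Set.mem_insert _ _)

theorem gen_word {j : ℕ} (hj : j < 2) : ∃ g : Cfsg.Omega F ⇑(Qo (F := F) 3), ∀ i : Fin 378,
    g.1.1.1 *ᵥ vec F (pt i) = vec F (actN (genRefl.getD j []) (pt i)) := by
  classical
  have h := List.all_eq_true.mp refl_ok j (List.mem_range.mpr hj)
  simp only [Bool.and_eq_true, List.all_eq_true, Bool.not_eq_true'] at h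
  obtain ⟨⟨hev, hne⟩, hpr⟩ := h
  have hne' : ∀ v ∈ genRefl.getD j [], qN v ≠ 0 := fun v hv e => by
    have := hne v hv
    rw [e] at this
    exact Bool.noConfusion this
  have hQ := Qo_nondeg (two_ne hF) 3
  have hne2 : ∀ v ∈ (genRefl.getD j []).map (vec F), Qo (F := F) 3 v ≠ 0 := fun v hv e => by
    obtain ⟨l, hl, rfl⟩ := List.mem_map.mp hv
    rw [← cast_qN hF] at e
    exact hne' l hl (cast_inj hF (Nat.mod_lt _ (by norm_num)) (by norm_num) (e.trans Nat.cast_zero.symm))
  obtain ⟨g, hg, -⟩ := CfsgLib.OmegaMem.exists_refl_prod (Qo (F := F) 3) (two_ne hF) hQ _ hne2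
  have hmem : g ∈ Cfsg.Omega F ⇑(Qo (F := F) 3) := by
    refine (CfsgLib.OmegaMem.omega_iff_prod _ (two_ne hF) (by simp) hQ g _ hne2 hg).mpr ⟨?_, ?_⟩
    · rw [List.length_map]
      exact Nat.even_iff.mpr (Nat.eq_of_beq_eq_true hev)
    · have hcast : ∀ w : List (List ℕ), (((w.map qN).prod : ℕ) : F) = ((w.map (vec F)).map fun v => Qo 3 v).prod := by
        intro w
        induction w with
        | nil => simp
        | cons v w ih => simp [← cast_qN hF, ih]
      rw [← hcast, ← cast_mod hF, Nat.eq_of_beq_eq_true hpr, Nat.cast_one]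
      exact IsSquare.one
  exact ⟨⟨g, hmem⟩, fun i => by
    show g.1.1 *ᵥ _ = _
    rw [hg, vec_act hF _ hne']⟩

theorem omega_card : Nat.card (Cfsg.Omega F ⇑(Qo (F := F) 3)) = 4585351680 ∧
    Subgroup.center (Cfsg.Omega F ⇑(Qo (F := F) 3)) = ⊥ := by
  classical
  have h2 := two_ne hF
  have hR := Qo_nondeg h2 3
  have hc : Subgroup.center (Cfsg.Omega F ⇑(Qo (F := F) 3)) = ⊥ := (Subgroup.eq_bot_iff_forall _).mpr fun g hg =>
    OrthCover.odd_center _ hR h2 ⟨3, by simp⟩ (by simp) hg
  refine ⟨?_, hc⟩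
  have hO : Nat.card (Cfsg.isometryGroup F ⇑(Qo (F := F) 3)) = 18341406720 := by
    rw [show (⇑(Qo (F := F) 3) : (Idx → F) → F) = Cfsg.quadFormOdd 3 F from funext fun v => Qo_apply 3 v,
      OrthOrder.card_O_odd (by rw [hF]; decide) 3, hF]
    simp [Finset.prod_range_succ]
  have hi := SpinorMatrix.omega_index (Qo (F := F) 3) h2 (by simp) hR
  have e := Subgroup.card_mul_index (Cfsg.Omega F ⇑(Qo (F := F) 3))
  rw [hi, hO] at e
  omega

theorem small_model : prodSet 378 chain = genG 378 (gens.map Prod.fst) ∧ Nat.card SmallO = 4585351680 ∧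
    Nonempty (Cfsg.Omega F ⇑(Qo (F := F) 3) ≃* SmallO) := by
  classical
  letI : MulAction (Cfsg.Omega F ⇑(Qo (F := F) 3)) (Set (Idx → F)) :=
    { smul := fun g s => (fun v => g.1.1.1 *ᵥ v) '' s
      one_smul := fun s => by
        show (fun v => (1 : Matrix Idx Idx F) *ᵥ v) '' s = s
        simp
      mul_smul := fun g h s => by
        show (fun v => (g.1.1.1 * h.1.1.1) *ᵥ v) '' s = (fun v => g.1.1.1 *ᵥ v) '' ((fun v => h.1.1.1 *ᵥ v) '' s)
        rw [Set.image_image]
        simp [Matrix.mulVec_mulVec] }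
  have hg : ∀ c ∈ gens.map Prod.fst, ∃ g : Cfsg.Omega F ⇑(Qo (F := F) 3), ∃ p : Perm (Fin 378), Rep 378 c p ∧
      ∀ i, g • line F i = line F (p i) := by
    intro c hc
    obtain ⟨j, hj, rfl⟩ := List.getElem_of_mem hc
    rw [List.length_map] at hj
    rw [List.getElem_map]
    have hj2 : j < 2 := gens_ok.2 ▸ hj
    obtain ⟨p, hp⟩ := small_valid _ (List.mem_map.mpr ⟨_, List.getElem_mem hj, rfl⟩)
    obtain ⟨g, hg⟩ := gen_word hF hj2
    refine ⟨g, p, hp, fun i => ?_⟩
    show (fun v => g.1.1.1 *ᵥ v) '' line F i = line F (p i)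
    have h := List.all_eq_true.mp (List.all_eq_true.mp imgs_ok j (List.mem_range.mpr hj2)) i (List.mem_range.mpr i.2)
    simp only [imgB, Bool.or_eq_true, beq_iff_eq] at h
    rw [List.getD_eq_getElem (l := gens) _ hj, hp i] at h
    rw [line, Set.image_pair, Matrix.mulVec_neg, hg, line]
    rcases h with h | h <;> rw [h]
    rw [vec_neg hF _ (pt_facts hF (p i)).2.1, neg_neg, Set.pair_comm]
  obtain ⟨hG, -⟩ := omega_card hF
  haveI : Finite (Cfsg.Omega F ⇑(Qo (F := F) 3)) := Nat.finite_of_card_ne_zero (by rw [hG]; norm_num)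
  have hle : Nat.card (Cfsg.Omega F ⇑(Qo (F := F) 3)) ≤ Nat.card SmallO := by
    obtain ⟨hsub, hc⟩ := table_products (by norm_num) small_table small_valid
    rw [hG, ← chain_shape.2.2, ← hc, ← Nat.card_coe_set_eq]
    exact Nat.card_mono (Set.toFinite _) hsub
  obtain ⟨e⟩ := exists_model (line_injective hF) hg hle
  have hcard : Nat.card SmallO = 4585351680 := (Nat.card_congr e.toEquiv).symm.trans hG
  exact ⟨(table_eq (by norm_num) small_table small_valid (by rw [hcard, chain_shape.2.2])).1, hcard, ⟨e⟩⟩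

theorem small_perfect : commutator SmallO = ⊤ := by
  classical
  obtain ⟨-, -, ⟨e⟩⟩ := small_model hF
  have hp := OrthCover.omega_perfect (Qo (F := F) 3) (Qo_nondeg (two_ne hF) 3) (by simp)
  let e' := (OrthCover.omegaEquiv (Qo (F := F) 3)).trans e
  rw [_root_.commutator_def, ← Subgroup.map_top_of_surjective e'.toMonoidHom e'.surjective, ← Subgroup.map_commutator,
    ← _root_.commutator_def, hp]

end Field

end CfsgLib.O7Mult
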