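/-
Kernel checks for the Sylow collectors of PΩ(7, 3).
-/
import Cfsg.Agent.Lib.O7Mult.SylowData
import Cfsg.Agent.Lib.O7Mult.GroupData

set_option autoImplicit false
set_option maxRecDepth 100000
set_option maxHeartbeats 4000000

namespace CfsgLib.O7Mult

open CfsgPC CfsgLib.StemSylow

theorem memTwo : memOK 378 chain (gcTwo ++ tcTwo) = true ∧ (tcTwo.map Prod.fst).head? = some (idk 378) ∧
    factsB chain baseTwo.facts (gcTwo.map Prod.fst) (tcTwo.map Prod.fst) = true := by decide +kernel

theorem memThree : memOK 378 chain (gcThree ++ tcThree) = true ∧ (tcThree.map Prod.fst).head? = some (idk 378) ∧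
    factsB chain baseThree.facts (gcThree.map Prod.fst) (tcThree.map Prod.fst) = true := by decide +kernel

theorem subTwo_shape : shapeOK 378 subTwo (gcTwo.map Prod.fst) = true ∧
    (subTwo.map fun L => L.tr.length) = [128, 2, 2] ∧ sizeOfChain subTwo = 512 ∧ gcTwo.length = 9 := by decide +kernel

theorem subTwo_entries : ((List.range 3).all fun j => entriesOK 378 subTwo (gcTwo.map Prod.fst) j 0
    ([128, 2, 2].getD j 0)) = true := by decide +kernel

theorem subThree_shape : shapeOK 378 subThree (gcThree.map Prod.fst) = true ∧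
    (subThree.map fun L => L.tr.length) = [27, 27, 27] ∧ sizeOfChain subThree = 19683 ∧ gcThree.length = 9 := by
  decide +kernel

theorem subThree_entries : ((List.range 3).all fun j => entriesOK 378 subThree (gcThree.map Prod.fst) j 0
    ([27, 27, 27].getD j 0)) = true := by decide +kernel

theorem certTwo_ok : certTwo.check = true ∧ baseTwo.p = 2 ∧ baseTwo.n = 9 ∧ certTwo.q = 4 ∧ certTwo.r = 2 := by
  decide +kernel

theorem certThree_ok : certThree.check = true ∧ baseThree.p = 3 ∧ baseThree.n = 9 ∧ certThree.q = 9 ∧ certThree.r = 3 := by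
  decide +kernel

theorem cyc_ok : (cycCodes.all fun d => isPerm 378 d.2.1 d.2.2 && sift 378 chain d.2.1 &&
    (List.range 378).all (fun i => Nat.beq (apN d.2.1 d.1 i) i) &&
    !((List.range 378).all fun i => Nat.beq (ap d.2.1 i) i)) = true ∧ cycCodes.map Prod.fst = [5, 7, 13] := by
  decide +kernel

end CfsgLib.O7Mult
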