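/-
Kernel checks for the monomial triple cover of PΩ(7, 3).
-/
import Cfsg.Agent.Lib.O7Mult.CoverData
import Cfsg.Agent.Lib.O7Mult.GroupData

set_option autoImplicit false
set_option maxRecDepth 100000
set_option maxHeartbeats 4000000

namespace CfsgLib.O7Mult

theorem permsT : coverT.permsOK = true ∧ coverT.objOK 378 = true ∧ coverT.treeOK = true ∧
    coverT.wordOK 378 (gens.map Prod.fst) = true := by decide +kernel

theorem moveT : coverT.moveOK 378 (gens.map Prod.fst) = true := by decide +kernel

theorem injT : coverT.sortOK coverTSorted coverTPlaces = true := by decide +kernel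

theorem rowT0 : coverT.rowOK 0 189 = true := by decide +kernel

theorem rowT1 : coverT.rowOK 189 378 = true := by decide +kernel

theorem keepT00 : coverT.keepOK 0 0 189 = true := by decide +kernel

theorem keepT01 : coverT.keepOK 0 189 378 = true := by decide +kernel

theorem keepT10 : coverT.keepOK 1 0 189 = true := by decide +kernel

theorem keepT11 : coverT.keepOK 1 189 378 = true := by decide +kernel

end CfsgLib.O7Mult
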