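/-
The multiplier of PΩ(7, 3) is cyclic of order six.
-/
import Cfsg.Agent.Lib.O7Mult.Group
import Cfsg.Agent.Lib.O7Mult.CoverChecks
import Cfsg.Agent.Lib.O7Mult.SylowChecks
import Cfsg.Agent.Lib.StemSylow.LabelCover
import Cfsg.Agent.Lib.StemSylow.PlaneFourModel
import Cfsg.Agent.Lib.StemSylow.CollectPOne
import Cfsg.Agent.Lib.PermChain.Schur
import Cfsg.Prelude.Def_KGroupFacts

set_option autoImplicit false
set_option maxRecDepth 30000
set_option linter.unusedSectionVars false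
set_option linter.style.haveILetI false

namespace CfsgLib.O7Mult

open Equiv Subgroup CfsgPC CfsgLib.StemSylow
open CfsgLib.StdQuadForms (Qo Qo_apply Qo_nondeg)

universe u

attribute [local irreducible] chain gens gcTwo tcTwo gcThree tcThree subTwo subThree cycCodes baseTwo baseThree certTwo
  certThree coverT

theorem coverT_ok : coverT.OK 378 (gens.map Prod.fst) := by
  obtain ⟨h1, h2, h3, h4⟩ := permsT
  have hm : coverT.m = 378 := by with_unfolding_all rfl
  have hq : coverT.q = 3 := by with_unfolding_all rfl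
  refine ⟨by omega, by rw [List.length_map]; exact gens_ok.2, h1, h2,
    StemSylow.LabelCover.Data.of_sortOK _ injT, moveT, fun a ha => ?_, fun j hj a ha => ?_, h3, h4⟩
  · by_cases h : a < 189
    · exact StemSylow.LabelCover.Data.of_rowOK _ rowT0 (Nat.zero_le _) h
    · exact StemSylow.LabelCover.Data.of_rowOK _ rowT1 (by omega) (hm ▸ ha)
  · interval_cases j
    · by_cases h : a < 189
      · exact StemSylow.LabelCover.Data.of_keepOK _ keepT00 (Nat.zero_le _) h
      · exact StemSylow.LabelCover.Data.of_keepOK _ keepT01 (by omega) (hm ▸ ha)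
    · by_cases h : a < 189
      · exact StemSylow.LabelCover.Data.of_keepOK _ keepT10 (Nat.zero_le _) h
      · exact StemSylow.LabelCover.Data.of_keepOK _ keepT11 (by omega) (hm ▸ ha)

theorem sub_table {sub : List Level} {cs : List ℕ} {lens : List ℕ} {k : ℕ} (hl : lens.length = k)
    (hs : shapeOK 378 sub cs = true) (hlens : (sub.map fun L => L.tr.length) = lens)
    (he : ((List.range k).all fun j => entriesOK 378 sub cs j 0 (lens.getD j 0)) = true) : TableOK 378 sub cs := by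
  refine tableOK_of_checks hs fun j hj i hi => ?_
  have hjk : j < k := by rw [← hl, ← hlens, List.length_map]; exact hj
  refine of_entriesOK (List.all_eq_true.mp he j (List.mem_range.mpr hjk)) (Nat.zero_le _) ?_
  rw [← hlens, List.getD_eq_getElem _ _ (by simpa using hj), List.getElem_map]
  rwa [List.getD_eq_getElem _ _ hj] at hi

/-- A number killing `z` with index prime to it recovers `z` from its power. -/
theorem mem_of_coprime {Γ : Type u} [Group Γ] {H : Subgroup Γ} {z : Γ} {k q : ℕ} (hq : z ^ q = 1) (hco : k.Coprime q)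
    (h : z ^ k ∈ H) : z ∈ H := by
  have e := Nat.gcd_eq_gcd_ab k q
  rw [hco.gcd_eq_one] at e
  have : z = (z ^ k) ^ Nat.gcdA k q := by
    conv_lhs => rw [← zpow_one z, show (1 : ℤ) = ((1 : ℕ) : ℤ) from rfl, e, zpow_add, zpow_mul, zpow_mul,
      zpow_natCast, zpow_natCast, hq, one_zpow, mul_one]
  rw [this]
  exact zpow_mem h _

/-- A Sylow collector with one survivor bounds the kernel when the kernel has the exponent of the collector. -/
theorem exp_bound (C : CollectPOne.Cert) (gc tc : List (ℕ × ℕ)) (sub : List Level) {p q r N k : ℕ}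
    (hC : C.check = true) (hbp : C.base.p = p) (hn : C.base.n = 9) (hq : C.q = q) (hr : C.r = r)
    (hpn : p ^ 9 = N) (hlen : gc.length = 9)
    (hok : memOK 378 chain (gc ++ tc) = true ∧ (tc.map Prod.fst).head? = some (idk 378) ∧
      factsB chain C.base.facts (gc.map Prod.fst) (tc.map Prod.fst) = true ∧
      TableOK 378 sub (gc.map Prod.fst) ∧ sizeOfChain sub = N)
    (hk : N * k = 4585351680) (hco : k.Coprime q)
    (hp : prodSet 378 chain = genG 378 (gens.map Prod.fst)) (hcard : Nat.card SmallO = 4585351680)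
    {Γ : Type u} [Group Γ] [Finite Γ] {σ : Γ →* SmallO} (hσ : Cfsg.IsStemExtension σ)
    (hexp : ∀ z ∈ σ.ker, z ^ q = 1) : ∃ w ∈ σ.ker, w ^ r = 1 ∧ σ.ker ≤ zpowers w := by
  classical
  obtain ⟨g, t, ht, hf, hle⟩ := SylowData.exists_elems ⟨gc, tc, sub⟩ (by norm_num) small_table small_valid hp
    (facts := C.base.facts) (N := N) ⟨hok.1, hok.2.1, hok.2.2.1, hok.2.2.2.1, hok.2.2.2.2⟩
  simp only at hle
  rw [hlen] at hle
  obtain ⟨w, hw, hwr, hall⟩ := CollectPOne.pow_index_mem_zpowers hσ C (by rw [hq]; exact hexp) hC g t ht hf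
    (by rw [hbp, hn, hpn]; exact hle)
  rw [hr] at hwr
  rw [hn] at hall
  refine ⟨w, hw, hwr, fun z hz => ?_⟩
  have hmul := (closure (g '' {k | k < 9})).card_mul_index
  rw [hcard] at hmul
  have hupp : Nat.card (closure (g '' {k | k < 9})) ≤ N := by
    have hone : ∀ N f, CollectMod.zz (fun _ => (1 : SmallO)) N f = 1 := by
      intro N f
      induction N with
      | zero => rfl
      | succ k ih => simp [CollectMod.zz, ih]
    have := CollectPOne.card_lift C (Gl := g) (Tl := t) (E := fun _ => (1 : SmallO))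
      (fun _ _ => Commute.one_left _) (fun _ => one_pow _) ht (fun m => by
        show _ = _ * (1 : SmallO)
        rw [mul_one]
        by_cases hm : m < C.base.facts.length
        · exact hf m hm
        · rw [show C.base.fact m = (0, [], []) from List.getD_eq_default _ _ (not_lt.mp hm)]
          simp [Collect.ev_nil, ht]) hC
    simp only [hone, mul_one, orderOf_one, hn, hbp, hpn] at this
    refine le_trans (Nat.card_mono (Set.toFinite _) ?_) this
    exact closure_mono Set.subset_union_left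
  rw [le_antisymm hupp hle] at hmul
  have hi : (closure (g '' {k | k < 9})).index = k := by
    refine Nat.eq_of_mul_eq_mul_left ?_ (hmul.trans hk.symm)
    refine Nat.pos_of_ne_zero fun e => ?_
    rw [e, zero_mul] at hk
    omega
  refine mem_of_coprime (hexp z hz) hco ?_
  rw [← hi]
  exact hall z hz

theorem exp_two (hp : prodSet 378 chain = genG 378 (gens.map Prod.fst)) (hcard : Nat.card SmallO = 4585351680)
    {Γ : Type u} [Group Γ] [Finite Γ] {σ : Γ →* SmallO} (hσ : Cfsg.IsStemExtension σ)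
    (hexp : ∀ z ∈ σ.ker, z ^ 4 = 1) : ∃ w ∈ σ.ker, w ^ 2 = 1 ∧ σ.ker ≤ zpowers w := by
  obtain ⟨hC, hbp, hn, hq, hr⟩ := certTwo_ok
  obtain ⟨hs, hlens, hsz, hlen⟩ := subTwo_shape
  have hb : certTwo.base = baseTwo := by with_unfolding_all rfl
  exact exp_bound certTwo gcTwo tcTwo subTwo hC (by rw [hb]; exact hbp) (by rw [hb]; exact hn) hq hr
    (p := 2) (N := 512) (k := 8955765) (by norm_num) hlen
    ⟨memTwo.1, memTwo.2.1, by rw [hb]; exact memTwo.2.2, sub_table rfl hs hlens subTwo_entries, hsz⟩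
    (by norm_num) (by norm_num) hp hcard hσ hexp

theorem exp_three (hp : prodSet 378 chain = genG 378 (gens.map Prod.fst)) (hcard : Nat.card SmallO = 4585351680)
    {Γ : Type u} [Group Γ] [Finite Γ] {σ : Γ →* SmallO} (hσ : Cfsg.IsStemExtension σ)
    (hexp : ∀ z ∈ σ.ker, z ^ 9 = 1) : ∃ w ∈ σ.ker, w ^ 3 = 1 ∧ σ.ker ≤ zpowers w := by
  obtain ⟨hC, hbp, hn, hq, hr⟩ := certThree_ok
  obtain ⟨hs, hlens, hsz, hlen⟩ := subThree_shape
  have hb : certThree.base = baseThree := by with_unfolding_all rfl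
  exact exp_bound certThree gcThree tcThree subThree hC (by rw [hb]; exact hbp) (by rw [hb]; exact hn) hq hr
    (p := 3) (N := 19683) (k := 232960) (by norm_num) hlen
    ⟨memThree.1, memThree.2.1, by rw [hb]; exact memThree.2.2, sub_table rfl hs hlens subThree_entries, hsz⟩
    (by norm_num) (by norm_num) hp hcard hσ hexp

theorem ker_small (hp : prodSet 378 chain = genG 378 (gens.map Prod.fst)) (hcard : Nat.card SmallO = 4585351680)
    {Γ : Type u} [Group Γ] [Finite Γ] {σ : Γ →* SmallO} (hσ : Cfsg.IsStemExtension σ) :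
    ∃ w ∈ σ.ker, w ^ 6 = 1 ∧ σ.ker ≤ zpowers w := by
  classical
  have kc : ∀ p ∈ [5, 7, 13], ∀ w ∈ σ.ker, w ^ p = 1 → w = 1 := fun p hp' w hw hwp => by
    obtain ⟨hall, hmap⟩ := cyc_ok
    rw [← hmap] at hp'
    obtain ⟨d, hd, rfl⟩ := List.mem_map.mp hp'
    have hd7 : d.1 = 5 ∨ d.1 = 7 ∨ d.1 = 13 := by
      have : d.1 ∈ cycCodes.map Prod.fst := List.mem_map_of_mem hd
      simpa [hmap] using this
    have h := List.all_eq_true.mp hall d hd
    simp only [Bool.and_eq_true, Bool.not_eq_true', List.all_eq_true, List.mem_range] at h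
    obtain ⟨⟨⟨hp'', hs⟩, hpow⟩, hne⟩ := h
    have hr := decP_rep hp''
    let g : SmallO := ⟨_, mem_of_sift (by norm_num) small_table small_valid _ _ hr hs⟩
    refine no_torsion_cyclic (by rcases hd7 with e | e | e <;> rw [e] <;> norm_num) (g := g)
      (Subtype.ext (Equiv.ext fun i => Fin.ext ?_)) (fun e => ?_) ?_ hσ hw hwp
    · rw [SubgroupClass.coe_pow, ← rep_apN hr, Nat.eq_of_beq_eq_true (hpow i i.2)]
      rfl
    · have e' : decP 378 d.2.1 = 1 := congrArg Subtype.val e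
      rw [← Bool.not_eq_true, List.all_eq_true] at hne
      refine hne fun i hi => ?_
      have := hr ⟨i, List.mem_range.mp hi⟩
      rw [e'] at this
      rw [show ap d.2.1 i = i from this, Nat.beq_refl]
    · rw [hcard]; rcases hd7 with e | e | e <;> rw [e] <;> norm_num
  have hbig : ∀ z ∈ σ.ker, z ^ 10077696 = 1 := by
    intro z hz
    have h0 : z ^ 4585351680 = 1 := by
      have := CfsgLib.StSL.pow_index_eq_one_of_cyclic hσ (1 : SmallO) hz
      rwa [zpowers_one_eq_bot, index_bot, hcard] at this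
    have k13 : z ^ 352719360 = 1 := kc 13 (by simp) _ (pow_mem hz _) (by rw [← pow_mul]; exact h0)
    have k7 : z ^ 50388480 = 1 := kc 7 (by simp) _ (pow_mem hz _) (by rw [← pow_mul]; exact k13)
    exact kc 5 (by simp) _ (pow_mem hz _) (by rw [← pow_mul]; exact k7)
  have hc : ∀ x, x ∈ σ.ker → ∀ g, Commute x g := fun x hx g => (mem_center_iff.mp (hσ.2.1 hx) g).symm
  obtain ⟨a, ha, ⟨ya, hya, hea⟩, halla⟩ :=
    CollectMod.mod_pow hσ 4 2 (fun Δ _ _ τ hτ hexp => exp_two hp hcard hτ hexp)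
  obtain ⟨b, hb, ⟨yb, hyb, heb⟩, hallb⟩ :=
    CollectMod.mod_pow hσ 9 3 (fun Δ _ _ τ hτ hexp => exp_three hp hcard hτ hexp)
  have iter : ∀ (q r : ℕ) (z₀ y₀ : Γ), z₀ ∈ σ.ker → y₀ ∈ σ.ker → z₀ ^ r = y₀ ^ (r * q) →
      (∀ z ∈ σ.ker, ∃ (k : ℤ), ∃ y ∈ σ.ker, z = z₀ ^ k * y ^ (r * q)) →
      ∀ j : ℕ, ∀ z ∈ σ.ker, ∃ v ∈ σ.ker, z ^ r = v ^ (r * q ^ (j + 1)) := by
    intro q r z₀ y₀ hz₀ hy₀ he hall
    have hone : ∀ z ∈ σ.ker, ∃ v ∈ σ.ker, z ^ r = v ^ (r * q) := by
      intro z hz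
      obtain ⟨k, y, hy, rfl⟩ := hall z hz
      refine ⟨y₀ ^ k * y ^ r, mul_mem (zpow_mem hy₀ k) (pow_mem hy r), ?_⟩
      rw [(hc _ (zpow_mem hz₀ k) _).mul_pow, (hc _ (zpow_mem hy₀ k) _).mul_pow, ← pow_mul, ← pow_mul]
      congr 1
      · rw [← zpow_natCast (z₀ ^ k), ← zpow_natCast (y₀ ^ k), ← _root_.zpow_mul, ← _root_.zpow_mul, mul_comm k,
          mul_comm k, _root_.zpow_mul, _root_.zpow_mul, zpow_natCast, zpow_natCast, he]
      · congr 1
        ring
    intro j
    induction j with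
    | zero => simpa using hone
    | succ j ih =>
      intro z hz
      obtain ⟨v, hv, e⟩ := ih z hz
      obtain ⟨x, hx, e'⟩ := hone v hv
      refine ⟨x, hx, ?_⟩
      rw [e, pow_mul, e', ← pow_mul]
      congr 1
      ring
  have it2 := iter 2 2 a ya ha hya hea halla
  have it3 := iter 3 3 b yb hb hyb heb hallb
  have h6 : ∀ z ∈ σ.ker, z ^ 6 = 1 := by
    intro z hz
    obtain ⟨v, hv, e⟩ := it2 8 z hz
    obtain ⟨u, hu, e'⟩ := it3 8 z hz
    have h1 : z ^ 39366 = 1 := by
      rw [show 39366 = 2 * 19683 from rfl, pow_mul, e, ← pow_mul,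
        show 2 * 2 ^ (8 + 1) * 19683 = 10077696 * 2 by norm_num, pow_mul, hbig v hv, one_pow]
    have h2 : z ^ 1536 = 1 := by
      rw [show 1536 = 3 * 512 from rfl, pow_mul, e', ← pow_mul,
        show 3 * 3 ^ (8 + 1) * 512 = 10077696 * 3 by norm_num, pow_mul, hbig u hu, one_pow]
    exact pow_gcd_eq_one.mpr ⟨h1, h2⟩
  refine ⟨a ^ 3 * b ^ 2, mul_mem (pow_mem ha 3) (pow_mem hb 2), h6 _ (mul_mem (pow_mem ha 3) (pow_mem hb 2)),
    fun z hz => ?_⟩
  set w := a ^ 3 * b ^ 2 with hwdef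
  have ea : a ^ 3 ∈ zpowers w := by
    refine ⟨3, ?_⟩
    show w ^ (3 : ℤ) = _
    rw [show (3 : ℤ) = ((3 : ℕ) : ℤ) from rfl, zpow_natCast, hwdef, (hc _ (pow_mem ha 3) _).mul_pow, ← pow_mul,
      ← pow_mul, show 3 * 3 = 6 + 3 from rfl, pow_add, h6 a ha, one_mul, h6 b hb, mul_one]
  have eb : b ^ 2 ∈ zpowers w := by
    refine ⟨4, ?_⟩
    show w ^ (4 : ℤ) = _
    rw [show (4 : ℤ) = ((4 : ℕ) : ℤ) from rfl, zpow_natCast, hwdef, (hc _ (pow_mem ha 3) _).mul_pow, ← pow_mul,
      ← pow_mul, show 3 * 4 = 6 * 2 from rfl, pow_mul, h6 a ha, one_pow, one_mul,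
      show 2 * 4 = 6 + 2 from rfl, pow_add, h6 b hb, one_mul]
  have z3 : z ^ 3 ∈ zpowers w := by
    obtain ⟨k, y, hy, rfl⟩ := halla z hz
    rw [(hc _ (zpow_mem ha k) _).mul_pow, ← pow_mul, show 4 * 3 = 6 * 2 from rfl, pow_mul, h6 y hy, one_pow, mul_one,
      ← zpow_natCast, ← _root_.zpow_mul, mul_comm, _root_.zpow_mul, zpow_natCast]
    exact zpow_mem ea k
  have z2 : z ^ 2 ∈ zpowers w := by
    obtain ⟨k, y, hy, rfl⟩ := hallb z hz
    rw [(hc _ (zpow_mem hb k) _).mul_pow, ← pow_mul, show 9 * 2 = 6 * 3 from rfl, pow_mul, h6 y hy, one_pow, mul_one,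
      ← zpow_natCast, ← _root_.zpow_mul, mul_comm, _root_.zpow_mul, zpow_natCast]
    exact zpow_mem eb k
  rw [show z = z ^ 3 * (z ^ 2)⁻¹ by group]
  exact mul_mem z3 (inv_mem z2)

theorem multiplier {F : Type u} [Field F] [Fintype F] (hF : Fintype.card F = 3) :
    Cfsg.HasCyclicSchurMultiplier (Cfsg.POmega F (Cfsg.quadFormOdd 3 F)) 6 := by
  classical
  rw [show Cfsg.quadFormOdd 3 F = ⇑(Qo (F := F) 3) from funext fun v => (Qo_apply _ v).symm]
  obtain ⟨hp, hcard, ⟨e0⟩⟩ := small_model hF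
  obtain ⟨hG, hZb⟩ := omega_card hF
  let e : Cfsg.POmega F ⇑(Qo (F := F) 3) ≃* SmallO :=
    ((QuotientGroup.quotientMulEquivOfEq hZb).trans QuotientGroup.quotientBot).trans e0
  refine ⟨?_, fun Γ _ _ σ hσ => ?_⟩
  · have h2 := two_ne hF
    have hR := Qo_nondeg h2 3
    have hn : 5 ≤ Module.finrank F (Unit ⊕ (Fin (0 + 3) ⊕ Fin (0 + 3)) → F) := by simp
    set π₀ := OrthCover.cover (OrthCover.upO 0 F) OrthCover.upO_iso hR h2 hn with hπ₀
    have hc2 := OrthCover.cover_card (OrthCover.upO 0 F) OrthCover.upO_iso hR h2 hn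
      (OrthCover.kap_mem h2 _ fun s hs => OrthCover.upO_off hs)
    let g : ↥(OrthCover.Sub (OrthCover.upO 0 F)) →* Cfsg.POmega F ⇑(Qo (F := F) 3) :=
      (QuotientGroup.mk' _).comp ((OrthCover.omegaEquiv (Qo (F := F) 3)).toMonoidHom.comp π₀)
    have hgk : g.ker = π₀.ker := by
      ext x
      refine ⟨fun hx => ?_, fun hx => ?_⟩
      · have h1 := (QuotientGroup.eq_one_iff _).mp hx
        rw [hZb, Subgroup.mem_bot] at h1
        exact (map_eq_one_iff _ (OrthCover.omegaEquiv _).injective).mp h1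
      · show QuotientGroup.mk' _ (OrthCover.omegaEquiv _ (π₀ x)) = 1
        rw [MonoidHom.mem_ker.mp hx, map_one, map_one]
    have hg : Cfsg.IsStemExtension g := by
      refine ⟨(QuotientGroup.mk'_surjective _).comp ((OrthCover.omegaEquiv _).surjective.comp
        (OrthCover.cover_surjective _ _ _ _ _)), ?_, ?_⟩
      · rw [hgk]; exact OrthCover.cover_central _ _ _ _ _
      · rw [OrthCover.sub_perfect _ OrthCover.upO_iso hR h2 hn]; exact le_top
    haveI : Finite ↥(OrthCover.Sub (OrthCover.upO 0 F)) := by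
      refine Nat.finite_of_card_ne_zero ?_
      have := g.ker.card_mul_index
      rw [index_ker, MonoidHom.range_eq_top.mpr hg.1, card_top, hgk, hc2, Nat.card_congr e.toEquiv, hcard] at this
      omega
    obtain ⟨hfin, hst, hc3⟩ := LabelCover.cover_stem coverT_ok small_valid (small_perfect hF)
    have hq3 : coverT.q = 3 := by with_unfolding_all rfl
    let f : LabelCover.Cover coverT_ok small_valid →* Cfsg.POmega F ⇑(Qo (F := F) 3) :=
      e.symm.toMonoidHom.comp (LabelCover.proj coverT_ok small_valid)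
    have hfk : f.ker = (LabelCover.proj coverT_ok small_valid).ker := MonoidHom.ker_mulEquiv_comp _ e.symm
    have hf : Cfsg.IsStemExtension f := ⟨e.symm.surjective.comp hst.1, hfk ▸ hst.2.1, hfk ▸ hst.2.2⟩
    have hf3 : Nat.card f.ker = 3 := by rw [hfk, hc3, hq3]
    have hg2 : Nat.card g.ker = 2 := by rw [hgk, hc2]
    haveI := hfin
    have hcomb := PlaneFour.combine hf hg (by rw [hf3, hg2]; norm_num)
    refine ⟨_, inferInstance, inferInstance, _, hcomb, ?_⟩
    have hc6 : Nat.card ((f.comp (MonoidHom.fst (LabelCover.Cover coverT_ok small_valid)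
        ↥(OrthCover.Sub (OrthCover.upO 0 F)))).comp
        ((f.comp (MonoidHom.fst _ _)).eqLocus (g.comp (MonoidHom.snd _ _))).subtype).ker = 6 := by
      rw [PlaneFour.card_ker_fibre, hf3, hg2]
    haveI := hcomb
    set τ := (f.comp (MonoidHom.fst (LabelCover.Cover coverT_ok small_valid)
        ↥(OrthCover.Sub (OrthCover.upO 0 F)))).comp
        ((f.comp (MonoidHom.fst _ _)).eqLocus (g.comp (MonoidHom.snd _ _))).subtype
    obtain ⟨w, hw, hw6, hle⟩ := ker_small (σ := e.toMonoidHom.comp τ) hp hcard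
      ⟨e.surjective.comp hcomb.1, fun x hx => hcomb.2.1 (by simpa using hx), fun x hx => hcomb.2.2 (by simpa using hx)⟩
    have hw' : w ∈ τ.ker := by simpa using hw
    haveI : IsCyclic τ.ker := ⟨⟨⟨w, hw'⟩, fun y => by
      obtain ⟨k, hk⟩ := mem_zpowers_iff.mp (hle (show y.1 ∈ (e.toMonoidHom.comp τ).ker by simpa using y.2))
      exact ⟨k, Subtype.ext (by simpa using hk)⟩⟩⟩
    exact ⟨mulEquivOfCyclicCardEq (by rw [hc6]; simp)⟩
  · obtain ⟨w, hw, hw6, hle⟩ := ker_small (σ := e.toMonoidHom.comp σ) hp hcard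
      ⟨e.surjective.comp hσ.1, fun x hx => hσ.2.1 (by simpa using hx), fun x hx => hσ.2.2 (by simpa using hx)⟩
    have hw' : w ∈ σ.ker := by simpa using hw
    let φ : ZMod 6 →+ Additive σ.ker := ZMod.lift 6 ⟨zmultiplesHom (Additive σ.ker) (Additive.ofMul ⟨w, hw'⟩), by
      rw [zmultiplesHom_apply, natCast_zsmul, ← ofMul_pow, show (⟨w, hw'⟩ : σ.ker) ^ 6 = 1 from Subtype.ext hw6,
        ofMul_one]⟩
    refine ⟨AddMonoidHom.toMultiplicativeLeft φ, fun y => ?_⟩
    obtain ⟨k, hk⟩ := mem_zpowers_iff.mp (hle (show y.1 ∈ (e.toMonoidHom.comp σ).ker by simpa using y.2))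
    refine ⟨Multiplicative.ofAdd (k : ZMod 6), ?_⟩
    show Additive.toMul (φ (k : ZMod 6)) = y
    rw [ZMod.lift_coe, zmultiplesHom_apply, toMul_zsmul, toMul_ofMul]
    exact Subtype.ext (by rw [SubgroupClass.coe_zpow]; exact hk)

end CfsgLib.O7Mult
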